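import Cfsg.Prelude.Def_Classical
import Cfsg.Agent.ChevalleyStructure.NineField
set_option linter.all false

set_option autoImplicit false

/-! `SU₃(3)` over the explicit field with nine elements: two generators. -/

namespace Cfsg.Agent.ChevalleyStructure.G2Two.USide

open Cfsg Cfsg.Agent.ChevalleyStructure.NineField

theorem cube_add : ∀ x y : F9, (x + y) ^ 3 = x ^ 3 + y ^ 3 := by decide +kernel

abbrev SL3 : Type := Matrix.SpecialLinearGroup (Fin 3) F9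

abbrev Mat3 : Type := Matrix (Fin 3) (Fin 3) F9

theorem hermForm_eq (u v : Fin 3 → F9) :
    hermForm 3 F9 3 u v = u 0 * v 0 ^ 3 + u 1 * v 1 ^ 3 + u 2 * v 2 ^ 3 := Fin.sum_univ_three _

theorem mulVec_eq (M : Mat3) (u : Fin 3 → F9) (i : Fin 3) :
    M.mulVec u i = M i 0 * u 0 + M i 1 * u 1 + M i 2 * u 2 := Fin.sum_univ_three (fun j => M i j * u j)

/-- Columns orthonormal for the Hermitian form. -/
def Ortho (M : Mat3) : Prop :=
  ∀ j k : Fin 3, M 0 j * M 0 k ^ 3 + M 1 j * M 1 k ^ 3 + M 2 j * M 2 k ^ 3 = if j = k then 1 else 0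

theorem Ortho.preserves {M : Mat3} (h : Ortho M) (u v : Fin 3 → F9) :
    hermForm 3 F9 3 (M.mulVec u) (M.mulVec v) = hermForm 3 F9 3 u v := by
  have h00 := h 0 0
  have h01 := h 0 1
  have h02 := h 0 2
  have h10 := h 1 0
  have h11 := h 1 1
  have h12 := h 1 2
  have h20 := h 2 0
  have h21 := h 2 1
  have h22 := h 2 2
  simp only [Fin.isValue, ↓reduceIte, Fin.reduceEq] at h00 h01 h02 h10 h11 h12 h20 h21 h22
  simp only [hermForm_eq, mulVec_eq, cube_add, mul_pow]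
  linear_combination (u 0 * v 0 ^ 3) * h00 + (u 0 * v 1 ^ 3) * h01 + (u 0 * v 2 ^ 3) * h02 +
    (u 1 * v 0 ^ 3) * h10 + (u 1 * v 1 ^ 3) * h11 + (u 1 * v 2 ^ 3) * h12 +
    (u 2 * v 0 ^ 3) * h20 + (u 2 * v 1 ^ 3) * h21 + (u 2 * v 2 ^ 3) * h22

theorem mem_SU_iff (g : SL3) :
    g ∈ SU 3 F9 3 ↔ ∀ u v, hermForm 3 F9 3 (g.val.mulVec u) (g.val.mulVec v) = hermForm 3 F9 3 u v := Iff.rfl

theorem mem_SU_of_ortho {g : SL3} (h : Ortho g.val) : g ∈ SU 3 F9 3 := (mem_SU_iff g).2 h.preserves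

def m1 : Mat3 := !![0, 1, 0; 1, 0, 0; 0, 0, ⟨2, 0⟩]
def m2 : Mat3 := !![⟨0, 1⟩, 0, 0; 0, ⟨2, 2⟩, ⟨1, 1⟩; 0, ⟨1, 1⟩, ⟨1, 1⟩]
def m3 : Mat3 := !![⟨0, 2⟩, 0, 0; 0, ⟨2, 1⟩, ⟨1, 2⟩; 0, ⟨1, 2⟩, ⟨1, 2⟩]

theorem m1_det : m1.det = 1 := by rw [Matrix.det_fin_three]; decide +kernel
theorem m2_det : m2.det = 1 := by rw [Matrix.det_fin_three]; decide +kernel
theorem m3_det : m3.det = 1 := by rw [Matrix.det_fin_three]; decide +kernel

def k1 : SL3 := ⟨m1, m1_det⟩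
def k2 : SL3 := ⟨m2, m2_det⟩
def k3 : SL3 := ⟨m3, m3_det⟩

theorem k1_mem_SU : k1 ∈ SU 3 F9 3 := mem_SU_of_ortho (by unfold Ortho; decide +kernel)
theorem k2_mem_SU : k2 ∈ SU 3 F9 3 := mem_SU_of_ortho (by unfold Ortho; decide +kernel)

theorem k2_mul_k3 : k2 * k3 = 1 := Subtype.ext (by decide +kernel)

theorem k2_inv : k2⁻¹ = k3 := inv_eq_of_mul_eq_one_right k2_mul_k3

theorem k3_mem_SU : k3 ∈ SU 3 F9 3 := k2_inv ▸ inv_mem k2_mem_SU

/-- The subgroup generated by the two matrices. -/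
def S : Subgroup SL3 := Subgroup.closure {k1, k2}

theorem k1_mem : k1 ∈ S := Subgroup.subset_closure (Set.mem_insert _ _)
theorem k2_mem : k2 ∈ S := Subgroup.subset_closure (Set.mem_insert_of_mem _ rfl)
theorem k3_mem : k3 ∈ S := k2_inv ▸ inv_mem k2_mem

theorem S_le : S ≤ SU 3 F9 3 := by
  rw [S, Subgroup.closure_le]
  rintro x (rfl | rfl)
  · exact k1_mem_SU
  · exact k2_mem_SU

def code (x : F9) : ℕ := 3 * x.re.val + x.im.val

def code3 (v : F9 × F9 × F9) : ℕ := (code v.1 * 9 + code v.2.1) * 9 + code v.2.2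

def depT : ℕ := 0xb00000000a00600a87000000000a00000000d00c00499000900779000a009b5036067000000000000a00000000b00600a78000000000d00000000a00c00499000a0095b0009007970630760000009007690009007960aa0aa000000b0067a000b006a70bb08800009d0ba0000d90ab000000000000200000000b00000000c00500ba8000000000a00000000b0090079800080086a0008009c4058045000000000000c00000000b00500b8a000000000b00000000a0090078900080094c0008008a6085054000000500b89000500b980990cc0000008008790008008970bb0bb0000a908c00009a0c8000000000000000600a880008009b609a0ca000000900797000a007c50d908b0000aa0ab0000c80b900000000000010080096b000600a880a90ac000000a0075c00090077909d0b800008c09b0000aa0ba000000000000187072000078027000000000000363096000036069000000000000100000000200000000200900a990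

def parT : ℕ := 0x2000081020000040000002401020040908600000040002080100002000080048080902004428001020080118900080902024918024800100000002000000001042800002000040090082400058a040000010000020440000800020012000980412248000026000580080000980016189004180086000000010200428148000024010a0428024400220000001081102044a04000044081208100404024200000084200810000000200010000000000000000001024

def depT2 : ℕ := 0x230230000320320000000000004310310000130130000000000000000000002000000002003003220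

def parT2 : ℕ := 0x14200f08000002214004c000000000010000c1008

def dep (v : F9 × F9 × F9) : ℕ := (depT >>> (4 * code3 v)) % 16

def par (v : F9 × F9 × F9) : ℕ := (parT >>> (2 * code3 v)) % 4

def dep2 (v : F9 × F9 × F9) : ℕ := (depT2 >>> (4 * code3 v)) % 16

def par2 (v : F9 × F9 × F9) : ℕ := (parT2 >>> (2 * code3 v)) % 4

def gen : ℕ → SL3
  | 0 => k1
  | 1 => k2
  | _ => k3

theorem gen_mem (n : ℕ) : gen n ∈ S := by
  match n with
  | 0 => exact k1_mem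
  | 1 => exact k2_mem
  | (n + 2) => exact k3_mem

/-- Action of the generators on vectors, written out. -/
def step : ℕ → F9 × F9 × F9 → F9 × F9 × F9
  | 0, v => (v.2.1, v.1, ⟨2, 0⟩ * v.2.2)
  | 1, v => (⟨0, 1⟩ * v.1, ⟨2, 2⟩ * v.2.1 + ⟨1, 1⟩ * v.2.2, ⟨1, 1⟩ * v.2.1 + ⟨1, 1⟩ * v.2.2)
  | _, v => (⟨0, 2⟩ * v.1, ⟨2, 1⟩ * v.2.1 + ⟨1, 2⟩ * v.2.2, ⟨1, 2⟩ * v.2.1 + ⟨1, 2⟩ * v.2.2)

def vec (v : F9 × F9 × F9) : Fin 3 → F9 := ![v.1, v.2.1, v.2.2]

theorem vec_self (u : Fin 3 → F9) : vec (u 0, u 1, u 2) = u := by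
  funext i; fin_cases i <;> rfl

theorem gen_mulVec (n : ℕ) (v : F9 × F9 × F9) : (gen n).val.mulVec (vec v) = vec (step n v) := by
  obtain ⟨x, y, z⟩ := v
  match n with
  | 0 =>
    funext i; rw [mulVec_eq]
    change m1 i 0 * x + m1 i 1 * y + m1 i 2 * z = _
    fin_cases i
    · change 0 * x + 1 * y + 0 * z = y; ring
    · change 1 * x + 0 * y + 0 * z = x; ring
    · change 0 * x + 0 * y + ⟨2, 0⟩ * z = ⟨2, 0⟩ * z; ring
  | 1 =>
    funext i; rw [mulVec_eq]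
    change m2 i 0 * x + m2 i 1 * y + m2 i 2 * z = _
    fin_cases i
    · change ⟨0, 1⟩ * x + 0 * y + 0 * z = ⟨0, 1⟩ * x; ring
    · change 0 * x + ⟨2, 2⟩ * y + ⟨1, 1⟩ * z = ⟨2, 2⟩ * y + ⟨1, 1⟩ * z; ring
    · change 0 * x + ⟨1, 1⟩ * y + ⟨1, 1⟩ * z = ⟨1, 1⟩ * y + ⟨1, 1⟩ * z; ring
  | (n + 2) =>
    funext i; rw [mulVec_eq]
    change m3 i 0 * x + m3 i 1 * y + m3 i 2 * z = _
    fin_cases i
    · change ⟨0, 2⟩ * x + 0 * y + 0 * z = ⟨0, 2⟩ * x; ring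
    · change 0 * x + ⟨2, 1⟩ * y + ⟨1, 2⟩ * z = ⟨2, 1⟩ * y + ⟨1, 2⟩ * z; ring
    · change 0 * x + ⟨1, 2⟩ * y + ⟨1, 2⟩ * z = ⟨1, 2⟩ * y + ⟨1, 2⟩ * z; ring

def nrm (v : F9 × F9 × F9) : F9 := v.1 * v.1 ^ 3 + v.2.1 * v.2.1 ^ 3 + v.2.2 * v.2.2 ^ 3

theorem vec_zero (v : F9 × F9 × F9) : vec v 0 = v.1 := rfl
theorem vec_one (v : F9 × F9 × F9) : vec v 1 = v.2.1 := rfl
theorem vec_two (v : F9 × F9 × F9) : vec v 2 = v.2.2 := rfl

theorem nrm_eq (v : F9 × F9 × F9) : nrm v = hermForm 3 F9 3 (vec v) (vec v) := by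
  rw [hermForm_eq, vec_zero, vec_one, vec_two, nrm]

theorem check1 : ∀ x y z : F9, nrm (x, y, z) = 1 →
    (x, y, z) = ((1 : F9), (0 : F9), (0 : F9)) ∨ dep (step (par (x, y, z)) (x, y, z)) < dep (x, y, z) := by
  decide +kernel

theorem vec_injective {v w : F9 × F9 × F9} (h : vec v = vec w) : v = w := by
  obtain ⟨x, y, z⟩ := v
  obtain ⟨x', y', z'⟩ := w
  have h0 : x = x' := congrFun h 0
  have h1 : y = y' := congrFun h 1
  have h2 : z = z' := congrFun h 2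
  rw [h0, h1, h2]

/-- Transitivity on vectors of norm one. -/
theorem trans1 (n : ℕ) : ∀ v : F9 × F9 × F9, dep v = n → nrm v = 1 →
    ∃ g ∈ S, g.val.mulVec (vec v) = vec (1, 0, 0) := by
  induction n using Nat.strong_induction_on with
  | _ n ih =>
    intro v hv hn
    obtain ⟨x, y, z⟩ := v
    rcases check1 x y z hn with h | h
    · exact ⟨1, one_mem _, by rw [h]; exact Matrix.one_mulVec _⟩
    · have hn' : nrm (step (par (x, y, z)) (x, y, z)) = 1 := by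
        rw [nrm_eq, ← gen_mulVec, (mem_SU_iff _).1 (S_le (gen_mem _)), ← nrm_eq, hn]
      obtain ⟨g, hg, hgv⟩ := ih _ (by rw [← hv]; exact h) _ rfl hn'
      refine ⟨g * gen (par (x, y, z)), mul_mem hg (gen_mem _), ?_⟩
      rw [Matrix.SpecialLinearGroup.coe_mul, ← Matrix.mulVec_mulVec, gen_mulVec, hgv]

/-! ### The stabiliser of the first basis vector -/

def n1 : Mat3 := !![1, 0, 0; 0, ⟨1, 2⟩, ⟨2, 1⟩; 0, ⟨1, 1⟩, ⟨1, 1⟩]
def n2 : Mat3 := !![1, 0, 0; 0, ⟨1, 1⟩, ⟨1, 2⟩; 0, ⟨2, 2⟩, ⟨1, 2⟩]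
def n3 : Mat3 := !![1, 0, 0; 0, ⟨1, 1⟩, ⟨2, 2⟩; 0, ⟨1, 2⟩, ⟨1, 2⟩]
def n4 : Mat3 := !![1, 0, 0; 0, ⟨1, 2⟩, ⟨1, 1⟩; 0, ⟨2, 1⟩, ⟨1, 1⟩]

def t1 : SL3 := k1 * k2 * k2 * k1 * k3
def t2 : SL3 := k2 * k1 * k3 * k3 * k1
def t3 : SL3 := k1 * k3 * k3 * k1 * k2
def t4 : SL3 := k3 * k1 * k2 * k2 * k1

theorem t1_val : t1.val = n1 := by
  change m1 * m2 * m2 * m1 * m3 = n1
  decide +kernel
theorem t2_val : t2.val = n2 := by
  change m2 * m1 * m3 * m3 * m1 = n2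
  decide +kernel
theorem t3_val : t3.val = n3 := by
  change m1 * m3 * m3 * m1 * m2 = n3
  decide +kernel
theorem t4_val : t4.val = n4 := by
  change m3 * m1 * m2 * m2 * m1 = n4
  decide +kernel

def gen' : ℕ → SL3
  | 0 => t1
  | 1 => t2
  | 2 => t3
  | _ => t4

theorem gen'_mem (n : ℕ) : gen' n ∈ S := by
  match n with
  | 0 => exact mul_mem (mul_mem (mul_mem (mul_mem k1_mem k2_mem) k2_mem) k1_mem) k3_mem
  | 1 => exact mul_mem (mul_mem (mul_mem (mul_mem k2_mem k1_mem) k3_mem) k3_mem) k1_mem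
  | 2 => exact mul_mem (mul_mem (mul_mem (mul_mem k1_mem k3_mem) k3_mem) k1_mem) k2_mem
  | (n + 3) => exact mul_mem (mul_mem (mul_mem (mul_mem k3_mem k1_mem) k2_mem) k2_mem) k1_mem

def step' : ℕ → F9 × F9 × F9 → F9 × F9 × F9
  | 0, v => (v.1, ⟨1, 2⟩ * v.2.1 + ⟨2, 1⟩ * v.2.2, ⟨1, 1⟩ * v.2.1 + ⟨1, 1⟩ * v.2.2)
  | 1, v => (v.1, ⟨1, 1⟩ * v.2.1 + ⟨1, 2⟩ * v.2.2, ⟨2, 2⟩ * v.2.1 + ⟨1, 2⟩ * v.2.2)
  | 2, v => (v.1, ⟨1, 1⟩ * v.2.1 + ⟨2, 2⟩ * v.2.2, ⟨1, 2⟩ * v.2.1 + ⟨1, 2⟩ * v.2.2)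
  | _, v => (v.1, ⟨1, 2⟩ * v.2.1 + ⟨1, 1⟩ * v.2.2, ⟨2, 1⟩ * v.2.1 + ⟨1, 1⟩ * v.2.2)

theorem gen'_mulVec (n : ℕ) (v : F9 × F9 × F9) : (gen' n).val.mulVec (vec v) = vec (step' n v) := by
  obtain ⟨x, y, z⟩ := v
  match n with
  | 0 =>
    change t1.val.mulVec _ = _
    rw [t1_val]
    funext i; rw [mulVec_eq]
    change n1 i 0 * x + n1 i 1 * y + n1 i 2 * z = _
    fin_cases i
    · change 1 * x + 0 * y + 0 * z = x; ring
    · change 0 * x + ⟨1, 2⟩ * y + ⟨2, 1⟩ * z = ⟨1, 2⟩ * y + ⟨2, 1⟩ * z; ring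
    · change 0 * x + ⟨1, 1⟩ * y + ⟨1, 1⟩ * z = ⟨1, 1⟩ * y + ⟨1, 1⟩ * z; ring
  | 1 =>
    change t2.val.mulVec _ = _
    rw [t2_val]
    funext i; rw [mulVec_eq]
    change n2 i 0 * x + n2 i 1 * y + n2 i 2 * z = _
    fin_cases i
    · change 1 * x + 0 * y + 0 * z = x; ring
    · change 0 * x + ⟨1, 1⟩ * y + ⟨1, 2⟩ * z = ⟨1, 1⟩ * y + ⟨1, 2⟩ * z; ring
    · change 0 * x + ⟨2, 2⟩ * y + ⟨1, 2⟩ * z = ⟨2, 2⟩ * y + ⟨1, 2⟩ * z; ring
  | 2 =>
    change t3.val.mulVec _ = _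
    rw [t3_val]
    funext i; rw [mulVec_eq]
    change n3 i 0 * x + n3 i 1 * y + n3 i 2 * z = _
    fin_cases i
    · change 1 * x + 0 * y + 0 * z = x; ring
    · change 0 * x + ⟨1, 1⟩ * y + ⟨2, 2⟩ * z = ⟨1, 1⟩ * y + ⟨2, 2⟩ * z; ring
    · change 0 * x + ⟨1, 2⟩ * y + ⟨1, 2⟩ * z = ⟨1, 2⟩ * y + ⟨1, 2⟩ * z; ring
  | (n + 3) =>
    change t4.val.mulVec _ = _
    rw [t4_val]
    funext i; rw [mulVec_eq]
    change n4 i 0 * x + n4 i 1 * y + n4 i 2 * z = _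
    fin_cases i
    · change 1 * x + 0 * y + 0 * z = x; ring
    · change 0 * x + ⟨1, 2⟩ * y + ⟨1, 1⟩ * z = ⟨1, 2⟩ * y + ⟨1, 1⟩ * z; ring
    · change 0 * x + ⟨2, 1⟩ * y + ⟨1, 1⟩ * z = ⟨2, 1⟩ * y + ⟨1, 1⟩ * z; ring

theorem step'_fst (n : ℕ) (v : F9 × F9 × F9) : (step' n v).1 = v.1 := by
  match n with
  | 0 => rfl
  | 1 => rfl
  | 2 => rfl
  | (n + 3) => rfl

theorem step'_e1 : ∀ n : ℕ, step' n (1, 0, 0) = (1, 0, 0) := by
  intro n
  match n with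
  | 0 => change ((1 : F9), _, _) = _; decide +kernel
  | 1 => change ((1 : F9), _, _) = _; decide +kernel
  | 2 => change ((1 : F9), _, _) = _; decide +kernel
  | (n + 3) =>
    change ((1 : F9), (⟨1, 2⟩ * 0 + ⟨1, 1⟩ * 0 : F9), (⟨2, 1⟩ * 0 + ⟨1, 1⟩ * 0 : F9)) = _
    decide +kernel

theorem check2 : ∀ y z : F9, nrm (0, y, z) = 1 →
    ((0 : F9), y, z) = ((0 : F9), (1 : F9), (0 : F9)) ∨
      dep2 (step' (par2 (0, y, z)) (0, y, z)) < dep2 (0, y, z) := by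
  decide +kernel

theorem trans2 (n : ℕ) : ∀ v : F9 × F9 × F9, v.1 = 0 → dep2 v = n → nrm v = 1 →
    ∃ g ∈ S, g.val.mulVec (vec (1, 0, 0)) = vec (1, 0, 0) ∧ g.val.mulVec (vec v) = vec (0, 1, 0) := by
  induction n using Nat.strong_induction_on with
  | _ n ih =>
    intro v h0 hv hn
    obtain ⟨x, y, z⟩ := v
    have h0 : x = 0 := h0
    subst h0
    rcases check2 y z hn with h | h
    · exact ⟨1, one_mem _, Matrix.one_mulVec _, by rw [h]; exact Matrix.one_mulVec _⟩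
    · have hn' : nrm (step' (par2 (0, y, z)) (0, y, z)) = 1 := by
        rw [nrm_eq, ← gen'_mulVec, (mem_SU_iff _).1 (S_le (gen'_mem _)), ← nrm_eq, hn]
      obtain ⟨g, hg, hg1, hgv⟩ := ih _ (by rw [← hv]; exact h) _ (step'_fst _ _) rfl hn'
      refine ⟨g * gen' (par2 (0, y, z)), mul_mem hg (gen'_mem _), ?_, ?_⟩
      · rw [Matrix.SpecialLinearGroup.coe_mul, ← Matrix.mulVec_mulVec, gen'_mulVec, step'_e1, hg1]
      · rw [Matrix.SpecialLinearGroup.coe_mul, ← Matrix.mulVec_mulVec, gen'_mulVec, hgv]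

/-- An element of `SU₃(3)` fixing the first two basis vectors is trivial. -/
theorem eq_one_of_fix {g : SL3} (hg : g ∈ SU 3 F9 3) (h1 : g.val.mulVec (vec (1, 0, 0)) = vec (1, 0, 0))
    (h2 : g.val.mulVec (vec (0, 1, 0)) = vec (0, 1, 0)) : g = 1 := by
  have e1 : ∀ i, g.val i 0 = vec (1, 0, 0) i := fun i => by
    rw [← congrFun h1 i, mulVec_eq]
    change _ = g.val i 0 * 1 + g.val i 1 * 0 + g.val i 2 * 0; ring
  have e2 : ∀ i, g.val i 1 = vec (0, 1, 0) i := fun i => by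
    rw [← congrFun h2 i, mulVec_eq]
    change _ = g.val i 0 * 0 + g.val i 1 * 1 + g.val i 2 * 0; ring
  have e3 : ∀ i, g.val i 2 = g.val.mulVec (vec (0, 0, 1)) i := fun i => by
    rw [mulVec_eq]
    change _ = g.val i 0 * 0 + g.val i 1 * 0 + g.val i 2 * 1; ring
  have o1 := (mem_SU_iff g).1 hg (vec (0, 0, 1)) (vec (1, 0, 0))
  have o2 := (mem_SU_iff g).1 hg (vec (0, 0, 1)) (vec (0, 1, 0))
  rw [h1, hermForm_eq, hermForm_eq, ← e3, ← e3, ← e3] at o1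
  rw [h2, hermForm_eq, hermForm_eq, ← e3, ← e3, ← e3] at o2
  have z0 : g.val 0 2 = 0 := by
    have : g.val 0 2 * (1 : F9) ^ 3 + g.val 1 2 * (0 : F9) ^ 3 + g.val 2 2 * (0 : F9) ^ 3 =
      (0 : F9) * (1 : F9) ^ 3 + (0 : F9) * (0 : F9) ^ 3 + (1 : F9) * (0 : F9) ^ 3 := o1
    linear_combination this
  have z1 : g.val 1 2 = 0 := by
    have : g.val 0 2 * (0 : F9) ^ 3 + g.val 1 2 * (1 : F9) ^ 3 + g.val 2 2 * (0 : F9) ^ 3 =
      (0 : F9) * (0 : F9) ^ 3 + (0 : F9) * (1 : F9) ^ 3 + (1 : F9) * (0 : F9) ^ 3 := o2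
    linear_combination this
  have a00 : g.val 0 0 = 1 := e1 0
  have a10 : g.val 1 0 = 0 := e1 1
  have a20 : g.val 2 0 = 0 := e1 2
  have a01 : g.val 0 1 = 0 := e2 0
  have a11 : g.val 1 1 = 1 := e2 1
  have a21 : g.val 2 1 = 0 := e2 2
  have hd : g.val.det = 1 := g.2
  rw [Matrix.det_fin_three, a00, a10, a20, a01, a11, a21, z0, z1] at hd
  have z2 : g.val 2 2 = 1 := by linear_combination hd
  apply Subtype.ext
  apply Matrix.ext
  intro i j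
  fin_cases i <;> fin_cases j
  · exact a00
  · exact a01
  · exact z0
  · exact a10
  · exact a11
  · exact z1
  · exact a20
  · exact a21
  · exact z2

theorem S_eq : S = SU 3 F9 3 := by
  refine le_antisymm S_le ?_
  intro g hg
  -- first column
  obtain ⟨a, ha, hav⟩ := trans1 _ (g.val.mulVec (vec (1, 0, 0)) 0, g.val.mulVec (vec (1, 0, 0)) 1,
    g.val.mulVec (vec (1, 0, 0)) 2) rfl (by
      rw [nrm_eq, vec_self, (mem_SU_iff g).1 hg, ← nrm_eq]; decide +kernel)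
  rw [vec_self, Matrix.mulVec_mulVec, ← Matrix.SpecialLinearGroup.coe_mul] at hav
  set g' := a * g with hg'
  have hg'U : g' ∈ SU 3 F9 3 := mul_mem (S_le ha) hg
  have hperp := (mem_SU_iff g').1 hg'U (vec (0, 1, 0)) (vec (1, 0, 0))
  rw [hav, hermForm_eq, hermForm_eq] at hperp
  have h0 : g'.val.mulVec (vec (0, 1, 0)) 0 = 0 := by
    have : g'.val.mulVec (vec (0, 1, 0)) 0 * (1 : F9) ^ 3 + g'.val.mulVec (vec (0, 1, 0)) 1 * (0 : F9) ^ 3 +
      g'.val.mulVec (vec (0, 1, 0)) 2 * (0 : F9) ^ 3 =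
      (0 : F9) * (1 : F9) ^ 3 + (1 : F9) * (0 : F9) ^ 3 + (0 : F9) * (0 : F9) ^ 3 := hperp
    linear_combination this
  obtain ⟨c, hc, hc1, hcv⟩ := trans2 _ (g'.val.mulVec (vec (0, 1, 0)) 0, g'.val.mulVec (vec (0, 1, 0)) 1,
    g'.val.mulVec (vec (0, 1, 0)) 2) h0 rfl (by
      rw [nrm_eq, vec_self, (mem_SU_iff g').1 hg'U, ← nrm_eq]; decide +kernel)
  rw [vec_self, Matrix.mulVec_mulVec, ← Matrix.SpecialLinearGroup.coe_mul] at hcv
  have hone : c * g' = 1 := by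
    refine eq_one_of_fix (mul_mem (S_le hc) hg'U) ?_ hcv
    rw [Matrix.SpecialLinearGroup.coe_mul, ← Matrix.mulVec_mulVec, hav, hc1]
  have hgg : g = a⁻¹ * c⁻¹ := by
    rw [← mul_inv_rev, eq_comm, inv_eq_iff_mul_eq_one, mul_assoc]
    exact hone
  rw [hgg]
  exact mul_mem (inv_mem ha) (inv_mem hc)

end Cfsg.Agent.ChevalleyStructure.G2Two.USide
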